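import Groth.Agent.S3572
import Groth.Agent.S3573
import Groth.Agent.S3590
import Groth.Agent.KPE7.Univ
import Groth.Agent.PnPic.Twist

/-!
Embeddings by the same complete linear system differ by an automorphism of projective space.
-/

set_option autoImplicit false
set_option linter.style.haveILetI false
set_option linter.unusedSectionVars false
set_option backward.isDefEq.respectTransparency false
set_option backward.isDefEq.respectTransparency.types false
set_option maxHeartbeats 1000000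

universe u

open CategoryTheory CategoryTheory.Limits AlgebraicGeometry TopologicalSpace Opposite

noncomputable section

namespace Groth.Agent.ProjEquiv

open Groth.Agent Groth.Agent.AModX Groth.Agent.KPE7

variable {k : Type u} [Field k] {n : ℕ} {X : Scheme.{u}}

local notation "P" => CohB1.ProjSpace n k
local notation "O1" => Twist.twistProjSpace n k 1
local notation "π" => CohB1.ProjSpace.toSpec n k
local notation "Crd" => (fun j => ProjUP.coord n k j : Fin (n + 1) → Γ(O1, ⊤))

/-- Linear combinations of global sections with constant coefficients. -/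
def lin (q : X ⟶ Spec (CommRingCat.of k)) (L : X.Modules) (v : Fin (n + 1) → Γ(L, ⊤))
    (c : Fin (n + 1) → k) : Γ(L, ⊤) :=
  ∑ i, (show Γ(X, ⊤) from ProjUP.toGlobal q (c i)) • v i

theorem app_lin {q : X ⟶ Spec (CommRingCat.of k)} {L L' : X.Modules} (e : L ⟶ L') (v : Fin (n + 1) → Γ(L, ⊤))
    (c : Fin (n + 1) → k) : e.app ⊤ (lin q L v c) = lin q L' (fun i => e.app ⊤ (v i)) c :=
  (map_sum _ _ _).trans (Finset.sum_congr rfl fun i _ => Scheme.Modules.Hom.app_smul e _ _)

theorem pullSec_lin {Y : Scheme.{u}} {q : Y ⟶ Spec (CommRingCat.of k)} (f : X ⟶ Y) {M : Y.Modules}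
    (v : Fin (n + 1) → Γ(M, ⊤)) (c : Fin (n + 1) → k) :
    ProjUP.pullSec f M (lin q M v c) =
      lin (f ≫ q) ((Scheme.Modules.pullback f).obj M) (fun j => ProjUP.pullSec f M (v j)) c := by
  let η : M ⟶ (Scheme.Modules.pushforward f).obj ((Scheme.Modules.pullback f).obj M) :=
    (Scheme.Modules.pullbackPushforwardAdjunction f).unit.app M
  show η.app ⊤ (lin q M v c) = _
  refine (map_sum _ _ _).trans (Finset.sum_congr rfl fun i _ => ?_)
  refine (Scheme.Modules.Hom.app_smul η _ _).trans ?_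
  rfl

/-- Sections pull back injectively along an isomorphism. -/
theorem pullSec_injective {Y : Scheme.{u}} (f : X ⟶ Y) [IsIso f] (M : Y.Modules) :
    Function.Injective (ProjUP.pullSec f M) := by
  have h := congrArg (fun φ => Scheme.Modules.Hom.app φ ⊤)
    (Adjunction.unit_leftAdjointUniq_hom_app (Scheme.Modules.restrictAdjunction f)
      (Scheme.Modules.pullbackPushforwardAdjunction f) M)
  have htop : (⊤ : Y.Opens) ≤ f ''ᵁ (f ⁻¹ᵁ ⊤) := fun y _ =>
    ⟨(inv f : Y ⟶ X) y, trivial, by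
      show ((inv f : Y ⟶ X) ≫ f) y = y
      rw [IsIso.inv_hom_id]
      rfl⟩
  intro a b hab
  show a = b
  let e := ((Scheme.Modules.restrictFunctorIsoPullback f).app M)
  have h1 : ∀ z : Γ(M, ⊤), e.hom.app (f ⁻¹ᵁ ⊤)
      (M.presheaf.map (homOfLE (f.image_preimage_le ⊤)).op z) = ProjUP.pullSec f M z := fun z =>
    ConcreteCategory.congr_hom h z
  have h2 := (ConcreteCategory.bijective_of_isIso (e.hom.app (f ⁻¹ᵁ ⊤))).1 ((h1 a).trans (hab.trans (h1 b).symm))
  have h3 := congrArg (M.presheaf.map (homOfLE htop).op) h2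
  exact ((QCoh.map_map _ _ a).trans (QCoh.map_id' _ a)).symm.trans
    (h3.trans ((QCoh.map_map _ _ b).trans (QCoh.map_id' _ b)))

/-- `a` is given by the sections `v` of `L`. -/
def Coords (q : X ⟶ Spec (CommRingCat.of k)) (a : X ⟶ P) (L : X.Modules) (v : Fin (n + 1) → Γ(L, ⊤)) : Prop :=
  a ≫ π = q ∧ ∃ e : (Scheme.Modules.pullback a).obj O1 ≅ L,
    ∀ i, e.hom.app ⊤ (ProjUP.pullSec a O1 (ProjUP.coord n k i)) = v i

theorem Coords.unique {q : X ⟶ Spec (CommRingCat.of k)} {a b : X ⟶ P} {L : X.Modules}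
    {v : Fin (n + 1) → Γ(L, ⊤)} (ha : Coords q a L v) (hb : Coords q b L v) : a = b := by
  obtain ⟨ha, e, he⟩ := ha
  obtain ⟨hb, e', he'⟩ := hb
  refine Groth.Agent.S3573.result n a b (ha.trans hb.symm) (e ≪≫ e'.symm) fun i => ?_
  show e'.inv.app ⊤ (e.hom.app ⊤ _) = _
  rw [he, ← he']
  exact congrArg (fun φ => Scheme.Modules.Hom.app φ ⊤ _) e'.hom_inv_id

theorem coords_id : Coords (n := n) π (𝟙 P) O1 Crd :=
  ⟨Category.id_comp _, (Scheme.Modules.pullbackId P).app O1, fun i => by
    refine (congrArg (((Scheme.Modules.pullbackId P).hom.app O1).app ⊤) (ps_eq_pullSec (𝟙 P) O1 _).symm).trans ?_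
    exact (CohPullLib.pullbackId_pullSec O1 (le_refl ⊤) (ProjUP.coord n k i)).trans (QCoh.map_id' _ _)⟩

theorem Coords.comp {q : X ⟶ Spec (CommRingCat.of k)} {a : X ⟶ P} {L : X.Modules}
    {v : Fin (n + 1) → Γ(L, ⊤)} (ha : Coords q a L v) {s : P ⟶ P} {M : Fin (n + 1) → Fin (n + 1) → k}
    (hs : Coords π s O1 fun l => lin π O1 Crd (M l)) :
    Coords q (a ≫ s) L fun l => lin q L v (M l) := by
  obtain ⟨ha, e, he⟩ := ha
  obtain ⟨hs, τ, hτ⟩ := hs
  refine ⟨by rw [Category.assoc, hs, ha], ((Scheme.Modules.pullbackComp a s).app O1).symm ≪≫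
    (Scheme.Modules.pullback a).mapIso τ ≪≫ e, fun l => ?_⟩
  show e.hom.app ⊤ (((Scheme.Modules.pullback a).map τ.hom).app ⊤
    (((Scheme.Modules.pullbackComp a s).inv.app O1).app ⊤ (ProjUP.pullSec (a ≫ s) O1 (ProjUP.coord n k l)))) = _
  rw [← ps_eq_pullSec, ps_comp_inv a s O1 le_rfl le_rfl le_rfl, ps_natural]
  have h1 : τ.hom.app ⊤ (QCoh.pullSec s O1 (le_refl ⊤) (ProjUP.coord n k l)) = lin π O1 Crd (M l) :=
    (congrArg (τ.hom.app ⊤) (ps_eq_pullSec s O1 _)).trans (hτ l)
  refine (congrArg (fun z => e.hom.app ⊤ (ps a O1 (le_refl ⊤) z)) h1).trans ?_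
  rw [ps_eq_pullSec, pullSec_lin, ha, app_lin]
  simp only [he]

theorem eq_zero_of_lin_coord {c : Fin (n + 1) → k} (h : lin π O1 Crd c = 0) : c = 0 := by
  classical
  by_contra hc
  obtain ⟨i, hi⟩ := Function.ne_iff.1 hc
  let F : Submodule k (Fin (n + 1) → k) := LinearMap.ker (LinearMap.proj (R := k) i)
  let e : ((Fin (n + 1) → k) ⧸ F) ≃ₗ[k] k :=
    LinearMap.quotKerEquivOfSurjective _ (LinearMap.proj_surjective i)
  have hrk : ∀ p : PrimeSpectrum k, Module.rankAtStalk (R := k) ((Fin (n + 1) → k) ⧸ F) p = 1 := fun p => by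
    rw [Module.rankAtStalk_eq_of_equiv e, Module.rankAtStalk_self]
    rfl
  obtain ⟨s, hs, hsF⟩ := (Groth.Agent.S3590.result n F).2 ⟨Module.Projective.of_equiv e.symm, hrk⟩
  have h0 := pullSec_lin (q := π) s Crd c
  rw [h, hs] at h0
  have hcF : c ∈ ProjUP.secKernel n k s := by
    rw [ProjUPX.secKernel_eq]
    letI := ProjUPX.specModule ((Scheme.Modules.pullback s).obj O1)
    rw [LinearMap.mem_ker, Fintype.linearCombination_apply]
    exact h0.symm.trans (map_zero _)
  rw [hsF] at hcF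
  exact hi hcF

theorem lin_add (q : X ⟶ Spec (CommRingCat.of k)) (L : X.Modules) (v : Fin (n + 1) → Γ(L, ⊤))
    (c d : Fin (n + 1) → k) : lin q L v (c + d) = lin q L v c + lin q L v d := by
  simp only [lin, Pi.add_apply, map_add, add_smul, Finset.sum_add_distrib]

theorem lin_smul (q : X ⟶ Spec (CommRingCat.of k)) (L : X.Modules) (v : Fin (n + 1) → Γ(L, ⊤))
    (a : k) (c : Fin (n + 1) → k) :
    lin q L v (a • c) = (show Γ(X, ⊤) from ProjUP.toGlobal q a) • lin q L v c := by
  simp only [lin, Finset.smul_sum, smul_smul, Pi.smul_apply, smul_eq_mul, map_mul]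

theorem lin_sum (q : X ⟶ Spec (CommRingCat.of k)) (L : X.Modules) (v : Fin (n + 1) → Γ(L, ⊤))
    (a : Fin (n + 1) → k) (M : Fin (n + 1) → Fin (n + 1) → k) :
    lin q L (fun l => lin q L v (M l)) a = lin q L v (∑ l, a l • M l) := by
  let f : (Fin (n + 1) → k) →+ Γ(L, ⊤) := AddMonoidHom.mk' (lin q L v) (lin_add q L v)
  show _ = f (∑ l, a l • M l)
  rw [map_sum]
  exact Finset.sum_congr rfl fun l _ => (lin_smul q L v (a l) (M l)).symm

theorem generatedBy_coord : ProjUP.GeneratedBy O1 Crd := by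
  refine generatedBy_frame _ fun x => ?_
  obtain ⟨j, hj⟩ := ProjUPX.cov_X x
  exact ⟨j, _, hj, ProjUPX.isFrame_sec _ (ProjPt.X_mem j)⟩

theorem generatedBy_lin {M : Fin (n + 1) → Fin (n + 1) → k} (hM : Submodule.span k (Set.range M) = ⊤) :
    ProjUP.GeneratedBy O1 fun l => lin π O1 Crd (M l) := by
  intro x
  refine eq_top_iff.2 ((generatedBy_coord (k := k) (n := n) x).ge.trans (Submodule.span_le.2 ?_))
  rintro _ ⟨j, rfl⟩
  obtain ⟨a, ha⟩ := (Submodule.mem_span_range_iff_exists_fun k).1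
    (hM ▸ Submodule.mem_top (x := Pi.single j 1))
  have he : (ProjUP.coord n k j : Γ(O1, ⊤)) = lin π O1 (fun l => lin π O1 Crd (M l)) a := by
    rw [lin_sum, ha, lin, Finset.sum_eq_single j (fun i _ hi => by
      rw [Pi.single_eq_of_ne hi, map_zero, zero_smul]) (fun h => absurd (Finset.mem_univ j) h),
      Pi.single_eq_same, map_one, one_smul]
  show (Scheme.Modules.presheaf O1).germ ⊤ x trivial (ProjUP.coord n k j : Γ(O1, ⊤)) ∈ _
  rw [he, lin, map_sum]
  refine Submodule.sum_mem _ fun l _ => ?_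
  rw [QCoh.germ_smul' O1 (show x ∈ (⊤ : (P).Opens) from trivial)]
  exact Submodule.smul_mem _ _ (Submodule.subset_span ⟨l, rfl⟩)

theorem exists_coords {M : Fin (n + 1) → Fin (n + 1) → k} (hM : Submodule.span k (Set.range M) = ⊤) :
    ∃ s : P ⟶ P, Coords π s O1 fun l => lin π O1 Crd (M l) := by
  obtain ⟨r, hr, τ, hτ⟩ := Groth.Agent.S3572.result n π O1
    (PnPic.isInvertible_twistProjSpace n k 1) (fun l => lin π O1 Crd (M l)) (generatedBy_lin hM)
  exact ⟨r, hr, τ, hτ⟩

/-- An invertible matrix gives an automorphism. -/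
theorem exists_aut {M : Fin (n + 1) → Fin (n + 1) → k} (hM : Submodule.span k (Set.range M) = ⊤) :
    ∃ s : P ≅ P, Coords π s.hom O1 fun l => lin π O1 Crd (M l) := by
  let A : Matrix (Fin (n + 1)) (Fin (n + 1)) k := Matrix.of M
  have hA : IsUnit A := by
    rw [← Matrix.linearIndependent_rows_iff_isUnit]
    exact linearIndependent_of_top_le_span_of_card_eq_finrank hM.ge (by simp)
  obtain ⟨u, hu⟩ := hA
  have hN : ∀ l, ∑ j, ((u⁻¹ : (Matrix (Fin (n + 1)) (Fin (n + 1)) k)ˣ) : Matrix (Fin (n + 1)) (Fin (n + 1)) k) l j • M j = Pi.single l 1 := fun l => by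
    funext j
    have h := congrFun (congrFun u.inv_mul l) j
    rw [Matrix.mul_apply, Matrix.one_apply, hu] at h
    rw [Finset.sum_apply, Pi.single_apply]
    exact h.trans (by simp only [eq_comm])
  have hN' : ∀ l, ∑ j, M l j • ((u⁻¹ : (Matrix (Fin (n + 1)) (Fin (n + 1)) k)ˣ) : Matrix (Fin (n + 1)) (Fin (n + 1)) k) j = Pi.single l 1 := fun l => by
    funext j
    have h := congrFun (congrFun u.mul_inv l) j
    rw [Matrix.mul_apply, Matrix.one_apply, hu] at h
    rw [Finset.sum_apply, Pi.single_apply]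
    exact h.trans (by simp only [eq_comm])
  have hspan : Submodule.span k (Set.range fun l => ((u⁻¹ : (Matrix (Fin (n + 1)) (Fin (n + 1)) k)ˣ) : Matrix (Fin (n + 1)) (Fin (n + 1)) k) l) = ⊤ := by
    rw [eq_top_iff, ← (Pi.basisFun k (Fin (n + 1))).span_eq, Submodule.span_le]
    rintro _ ⟨l, rfl⟩
    rw [Pi.basisFun_apply, ← hN' l]
    exact Submodule.sum_mem _ fun j _ => Submodule.smul_mem _ _ (Submodule.subset_span ⟨j, rfl⟩)
  obtain ⟨s, hs⟩ := exists_coords hM
  obtain ⟨t, ht⟩ := exists_coords hspan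
  have key : ∀ N : Fin (n + 1) → Fin (n + 1) → k, (∀ l, N l = Pi.single l 1) →
      (fun l => lin π O1 Crd (N l)) = Crd := fun N hN => funext fun l => by
    rw [hN, lin, Finset.sum_eq_single l (fun i _ hi => by
      rw [Pi.single_eq_of_ne hi, map_zero, zero_smul]) (fun h => absurd (Finset.mem_univ l) h),
      Pi.single_eq_same, map_one, one_smul]
  refine ⟨⟨s, t, ?_, ?_⟩, hs⟩
  · have h := hs.comp ht
    simp only [lin_sum] at h
    rw [key _ hN] at h
    exact h.unique coords_id
  · have h := ht.comp hs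
    simp only [lin_sum] at h
    rw [key _ hN'] at h
    exact h.unique coords_id

/-- Two morphisms given by bases of the same space of sections differ by an automorphism. -/
theorem exists_aut_comp {q : X ⟶ Spec (CommRingCat.of k)} {a b : X ⟶ P} {L : X.Modules}
    {v w : Fin (n + 1) → Γ(L, ⊤)} (ha : Coords q a L v) (hb : Coords q b L w)
    (hv : Function.Bijective (lin q L v)) (hw : Function.Bijective (lin q L w)) :
    ∃ s : P ≅ P, s.hom ≫ π = π ∧ a ≫ s.hom = b := by
  choose M hM using fun l => hv.2 (w l)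
  have hspan : Submodule.span k (Set.range M) = ⊤ := by
    refine eq_top_iff.2 fun c _ => ?_
    obtain ⟨d, hd⟩ := hw.2 (lin q L v c)
    have : ∑ l, d l • M l = c := hv.1 (by rw [← lin_sum, ← hd]; simp only [hM])
    rw [← this]
    exact Submodule.sum_mem _ fun j _ => Submodule.smul_mem _ _ (Submodule.subset_span ⟨j, rfl⟩)
  obtain ⟨s, hs⟩ := exists_aut hspan
  refine ⟨s, hs.1, ?_⟩
  have h := ha.comp hs
  simp only [hM] at h
  exact h.unique hb

/-- A non-degenerate morphism with few sections is given by a basis of them. -/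
theorem bijective_lin_of_nondegenerate [X.Over (Spec (CommRingCat.of k))] {a : X ⟶ P} {L : X.Modules}
    {v : Fin (n + 1) → Γ(L, ⊤)} (ha : Coords (X ↘ Spec (CommRingCat.of k)) a L v)
    (hnd : Function.Injective (((Scheme.Modules.pullbackPushforwardAdjunction a).unit.app O1).app ⊤))
    (hrk : Module.finrank k (Coh.HH X L 0) = n + 1) :
    Function.Bijective (lin (X ↘ Spec (CommRingCat.of k)) L v) := by
  obtain ⟨haq, e, he⟩ := ha
  let e₀ : Coh.HH X L 0 ≃+ Γ(L, ⊤) := Sheaf.H.equiv₀ (Coh.toAb L) isTerminalTop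
  have he₀ : ∀ (c : k) (y : Coh.HH X L 0),
      e₀ (c • y) = (show Γ(X, ⊤) from Coh.toGlobal (X ↘ Spec (CommRingCat.of k)) c) • e₀ y := by
    intro c y
    have h := (Sheaf.H.equiv₀_naturality isTerminalTop (Coh.smulAb L (Coh.toGlobal (X ↘ Spec (CommRingCat.of k)) c)) y).symm
    refine (show e₀ (c • y) = _ from h).trans ?_
    show (show Γ(X, ⊤) from Coh.resTop X (op ⊤) _) • e₀ y = _
    congr 1
    show (X.presheaf.map (homOfLE le_top).op).hom _ = _
    rw [show (homOfLE le_top).op = 𝟙 (op (⊤ : X.Opens)) from rfl, X.presheaf.map_id]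
    rfl
  let f : (Fin (n + 1) → k) →ₗ[k] Coh.HH X L 0 :=
    { toFun := fun c => e₀.symm (lin _ L v c)
      map_add' := fun c d => by rw [lin_add, map_add]
      map_smul' := fun b c => e₀.injective (by
        rw [RingHom.id_apply, he₀, e₀.apply_symm_apply, e₀.apply_symm_apply, lin_smul]; rfl) }
  have hinj : Function.Injective f := by
    rw [← LinearMap.ker_eq_bot, LinearMap.ker_eq_bot']
    intro c hc
    refine eq_zero_of_lin_coord (hnd ?_)
    have h2 : lin _ L v c = 0 := (e₀.apply_symm_apply _).symm.trans ((congrArg e₀ hc).trans (map_zero e₀))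
    rw [← funext he, ← app_lin] at h2
    have h3 := (ConcreteCategory.bijective_of_isIso (e.hom.app ⊤)).1 (h2.trans (map_zero _).symm)
    refine (pullSec_lin (q := π) a Crd c).trans ?_
    rw [haq]
    exact h3.trans (map_zero _).symm
  haveI : Module.Finite k (Coh.HH X L 0) := Module.finite_of_finrank_eq_succ hrk
  have hbij : Function.Bijective f := ⟨hinj,
    (LinearMap.injective_iff_surjective_of_finrank_eq_finrank (by rw [hrk]; simp)).1 hinj⟩
  exact (show (lin (X ↘ Spec (CommRingCat.of k)) L v) = e₀ ∘ f from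
    funext fun c => (e₀.apply_symm_apply _).symm) ▸ e₀.bijective.comp hbij

end Groth.Agent.ProjEquiv
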